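import Groth.Agent.H06Mod.StalkPullback
import Groth.Agent.H29Fitt.Sheaf
import Groth.Agent.H29Fitt.PullbackQCoh
import Groth.Agent.H29Blow.PointsOfAffine

/-!
# Sections of the inverse image of a quasi-coherent module over affine opens
-/

set_option autoImplicit false
set_option linter.style.haveILetI false

universe u

open AlgebraicGeometry CategoryTheory Limits TopologicalSpace Opposite TensorProduct

namespace Groth.Agent.H8Props.PullSections

variable {X Y : Scheme.{u}} (f : X ⟶ Y) (G : Y.Modules) {W : Y.Opens} {U : X.Opens}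
  (h : U ≤ f ⁻¹ᵁ W)

/-- Pull a section back and restrict it. -/
noncomputable def pullLin :
    letI := Module.compHom Γ((Scheme.Modules.pullback f).obj G, U) (f.appLE W U h).hom
    Γ(G, W) →ₗ[Γ(Y, W)] Γ((Scheme.Modules.pullback f).obj G, U) :=
  letI := Module.compHom Γ((Scheme.Modules.pullback f).obj G, U) (f.appLE W U h).hom
  { toFun := fun m => ((Scheme.Modules.pullback f).obj G).presheaf.map (homOfLE h).op
      (OmegaSh.pullSect f G W m)
    map_add' := fun a b => by rw [map_add, map_add]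
    map_smul' := fun r m => by
      rw [show OmegaSh.pullSect f G W (r • m) = f.app W r • OmegaSh.pullSect f G W m from
        Scheme.Modules.Hom.app_smul _ r m, Scheme.Modules.map_smul]
      rfl }

theorem bijective_of_localizations {B : Type u} [CommRing B] {M N : Type u} [AddCommGroup M]
    [Module B M] [AddCommGroup N] [Module B N] (F : M →ₗ[B] N)
    (H : ∀ (P : Ideal B) [P.IsMaximal],
      (∀ z, F z = 0 → ∃ s ∉ P, s • z = 0) ∧ ∀ n, ∃ s ∉ P, s • n ∈ LinearMap.range F) :
    Function.Bijective F := by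
  refine ⟨(injective_iff_map_eq_zero F).mpr fun z hz => ?_, fun n => ?_⟩
  · by_contra hne
    have htop : LinearMap.ker (LinearMap.toSpanSingleton B M z) ≠ ⊤ := fun e => hne (by
      have h1 : (1 : B) ∈ LinearMap.ker (LinearMap.toSpanSingleton B M z) := e ▸ Submodule.mem_top
      simpa using h1)
    obtain ⟨P, hP, hle⟩ := Ideal.exists_le_maximal _ htop
    obtain ⟨s, hs, hsz⟩ := (H P).1 z hz
    exact hs (hle (by simpa using hsz))
  · by_contra hne
    have htop : Submodule.comap (LinearMap.toSpanSingleton B N n) (LinearMap.range F) ≠ ⊤ :=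
      fun e => hne (by
        have h1 : (1 : B) ∈ Submodule.comap (LinearMap.toSpanSingleton B N n) (LinearMap.range F) :=
          e ▸ Submodule.mem_top
        simpa using h1)
    obtain ⟨P, hP, hle⟩ := Ideal.exists_le_maximal _ htop
    obtain ⟨s, hs, hsn⟩ := (H P).2 n
    exact hs (hle (by simpa using hsn))

variable (hG : Coh.IsQCoh G) (hW : IsAffineOpen W) (hU : IsAffineOpen U)

include hG hW hU in
/-- `Γ(f^*G, U) = Γ(X, U) ⊗ Γ(G, W)` for affine opens. -/
theorem isBaseChange_pullLin :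
    letI := (f.appLE W U h).hom.toAlgebra
    letI := Module.compHom Γ((Scheme.Modules.pullback f).obj G, U) (f.appLE W U h).hom
    haveI : IsScalarTower Γ(Y, W) Γ(X, U) Γ((Scheme.Modules.pullback f).obj G, U) :=
      .of_algebraMap_smul fun _ _ => rfl
    IsBaseChange Γ(X, U) (pullLin f G h) := by
  letI := (f.appLE W U h).hom.toAlgebra
  letI := Module.compHom Γ((Scheme.Modules.pullback f).obj G, U) (f.appLE W U h).hom
  haveI : IsScalarTower Γ(Y, W) Γ(X, U) Γ((Scheme.Modules.pullback f).obj G, U) :=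
    .of_algebraMap_smul fun _ _ => rfl
  let L : Γ(X, U) ⊗[Γ(Y, W)] Γ(G, W) →ₗ[Γ(X, U)] Γ((Scheme.Modules.pullback f).obj G, U) :=
    LinearMap.liftBaseChange Γ(X, U) (pullLin f G h)
  refine IsBaseChange.of_equiv (LinearEquiv.ofBijective L ?_) fun m => ?_
  swap
  · show L (1 ⊗ₜ m) = _
    simp [L]
  refine bijective_of_localizations L fun P hP => ?_
  obtain ⟨x, hx⟩ := H29Blow.exists_primeIdealOf_eq hU (⟨P, hP.isPrime⟩ : PrimeSpectrum Γ(X, U))
  have hxP : (hU.primeIdealOf x).asIdeal = P := congrArg PrimeSpectrum.asIdeal hx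
  let y : W := ⟨f.base x.1, h x.2⟩
  letI := TopCat.Presheaf.algebra_section_stalk X.presheaf x
  letI := TopCat.Presheaf.algebra_section_stalk Y.presheaf y
  letI : Algebra (Y.presheaf.stalk y.1) (X.presheaf.stalk x.1) := H06Mod.stalkAlgebra f x.1
  letI : Algebra Γ(Y, W) (X.presheaf.stalk x.1) :=
    ((algebraMap Γ(X, U) (X.presheaf.stalk x.1)).comp (algebraMap Γ(Y, W) Γ(X, U))).toAlgebra
  haveI : IsScalarTower Γ(Y, W) Γ(X, U) (X.presheaf.stalk x.1) := .of_algebraMap_eq fun _ => rfl
  haveI : IsScalarTower Γ(Y, W) (Y.presheaf.stalk y.1) (X.presheaf.stalk x.1) :=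
    .of_algebraMap_eq fun r => by
      show X.presheaf.germ U x.1 x.2 (f.appLE W U h r) =
        f.stalkMap x.1 (Y.presheaf.germ W (f.base x.1) (h x.2) r)
      rw [Scheme.Hom.germ_stalkMap_apply, Scheme.Hom.appLE, CommRingCat.comp_apply,
        TopCat.Presheaf.germ_res_apply]
  let St := ((Scheme.Modules.pullback f).obj G).presheaf.stalk x.1
  letI : Module Γ(X, U) St := Module.compHom St (algebraMap Γ(X, U) (X.presheaf.stalk x.1))
  letI : Module Γ(Y, W) St := Module.compHom St (algebraMap Γ(Y, W) (X.presheaf.stalk x.1))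
  letI : Module (Y.presheaf.stalk y.1) St := FlatMod.moduleStalkOver f _ x.1
  letI : Module Γ(Y, W) (G.presheaf.stalk y.1) :=
    Module.compHom (G.presheaf.stalk y.1) (algebraMap Γ(Y, W) (Y.presheaf.stalk y.1))
  haveI : IsScalarTower Γ(X, U) (X.presheaf.stalk x.1) St := .of_algebraMap_smul fun _ _ => rfl
  haveI : IsScalarTower Γ(Y, W) (X.presheaf.stalk x.1) St := .of_algebraMap_smul fun _ _ => rfl
  haveI : IsScalarTower (Y.presheaf.stalk y.1) (X.presheaf.stalk x.1) St :=
    .of_algebraMap_smul fun _ _ => rfl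
  haveI : IsScalarTower Γ(Y, W) Γ(X, U) St := .of_algebraMap_smul fun _ _ => rfl
  haveI : IsScalarTower Γ(Y, W) (Y.presheaf.stalk y.1) (G.presheaf.stalk y.1) :=
    .of_algebraMap_smul fun _ _ => rfl
  haveI : IsScalarTower Γ(Y, W) (Y.presheaf.stalk y.1) St := .of_algebraMap_smul fun r z => by
    show algebraMap (Y.presheaf.stalk y.1) (X.presheaf.stalk x.1) (algebraMap Γ(Y, W) _ r) • z = _
    rw [← IsScalarTower.algebraMap_apply]
    rfl
  haveI := hW.isLocalization_stalk y
  haveI := hU.isLocalization_stalk x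
  -- the two localizations
  have hN := H29Fitt.isLocalizedModule_germLin _ (H29Fitt.isQCoh_pullback f G hG) hU x
  have hM := H29Fitt.isLocalizedModule_germLin G hG hW y
  have h1 : IsBaseChange (Y.presheaf.stalk y.1) (H29Fitt.germLin G y) :=
    (isLocalizedModule_iff_isBaseChange (hW.primeIdealOf y).asIdeal.primeCompl _ _).mp hM
  let ps : G.presheaf.stalk y.1 →ₗ[Y.presheaf.stalk y.1] St :=
    { toFun := H06Mod.pullStalk f G x.1
      map_add' := map_add _
      map_smul' := H06Mod.pullStalk_smul f G x.1 }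
  have h2 : IsBaseChange (X.presheaf.stalk x.1) ps :=
    IsBaseChange.of_equiv (H06Mod.pullStalkEquiv f G x.1) fun m => by
      show H06Mod.pullStalkLin f G x.1 (1 ⊗ₜ m) = _
      rw [H06Mod.pullStalkLin_tmul, one_smul]
      rfl
  let ψ : Γ(X, U) ⊗[Γ(Y, W)] Γ(G, W) →ₗ[Γ(X, U)] St :=
    (H29Fitt.germLin ((Scheme.Modules.pullback f).obj G) x).comp L
  have key : (ψ.restrictScalars Γ(Y, W)).comp (TensorProduct.mk Γ(Y, W) Γ(X, U) Γ(G, W) 1) =
      (ps.restrictScalars Γ(Y, W)).comp (H29Fitt.germLin G y) := by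
    ext m
    show ((Scheme.Modules.pullback f).obj G).presheaf.germ U x.1 x.2 (L (1 ⊗ₜ m)) =
      H06Mod.pullStalk f G x.1 (G.presheaf.germ W (f.base x.1) (h x.2) m)
    rw [H06Mod.pullStalk_germ]
    simp only [L, LinearMap.liftBaseChange_tmul, one_smul]
    exact ((Scheme.Modules.pullback f).obj G).presheaf.germ_res_apply (homOfLE h) x.1 x.2 _
  have h4 : IsBaseChange (X.presheaf.stalk x.1) ψ :=
    IsBaseChange.of_comp (TensorProduct.isBaseChange Γ(Y, W) Γ(G, W) Γ(X, U))
      (key ▸ IsBaseChange.comp h1 h2)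
  have hψ : IsLocalizedModule (hU.primeIdealOf x).asIdeal.primeCompl ψ :=
    (isLocalizedModule_iff_isBaseChange _ (X.presheaf.stalk x.1) ψ).mpr h4
  refine ⟨fun z hz => ?_, fun n => ?_⟩
  · obtain ⟨s, hs⟩ := hψ.exists_of_eq (x₁ := z) (x₂ := 0)
      (by simp only [ψ, LinearMap.comp_apply, hz, map_zero])
    exact ⟨s, hxP ▸ s.2, by simpa [Submonoid.smul_def] using hs⟩
  · obtain ⟨⟨z, s⟩, hzs⟩ := hψ.surj (H29Fitt.germLin ((Scheme.Modules.pullback f).obj G) x n)
    obtain ⟨t, ht⟩ := hN.exists_of_eq (x₁ := (s : Γ(X, U)) • n) (x₂ := L z) (by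
      rw [map_smul]
      exact hzs)
    refine ⟨(t : Γ(X, U)) * s, hxP ▸ (t * s).2, (t : Γ(X, U)) • z, ?_⟩
    rw [map_smul, mul_smul]
    exact ht.symm

end Groth.Agent.H8Props.PullSections
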