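import Groth.Agent.H8Props.RelFP.Change
import Groth.Agent.H29Fitt.Sheaf
import Groth.Agent.H10Coh.BaseChange
import Groth.Prelude.Def_Flatn

/-!
# Relative finite presentation of modules on schemes: affine locality
-/

set_option autoImplicit false
set_option linter.style.haveILetI false

universe u

open AlgebraicGeometry CategoryTheory Limits TopologicalSpace Opposite

namespace Groth.Agent.H8Props.RelFP

variable {X S : Scheme.{u}}

/-- `RelFPOn` for arbitrary opens. -/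
def RFPAt (f : X ⟶ S) (F : X.Modules) (U : X.Opens) (V : S.Opens) : Prop :=
  ∃ h : U ≤ f ⁻¹ᵁ V,
    letI := (f.appLE V U h).hom.toAlgebra
    FlatCA.RelFinitePresentation Γ(S, V) Γ(X, U) Γ(F, U)

theorem relFPOn_iff_rfpAt (f : X ⟶ S) (F : X.Modules) (U : X.affineOpens) (V : S.affineOpens)
    (h : (U : X.Opens) ≤ f ⁻¹ᵁ (V : S.Opens)) :
    Flatn.RelFPOn f F U V h ↔ RFPAt f F U V :=
  ⟨fun H => ⟨h, H⟩, fun ⟨_, H⟩ => H⟩

variable {f : X ⟶ S} {F : X.Modules}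

/-- Shrink the source to a basic open. -/
theorem RFPAt.basicOpen (hF : Coh.IsQCoh F) {U : X.Opens} {V : S.Opens} (hU : IsAffineOpen U)
    (H : RFPAt f F U V) (t : Γ(X, U)) : RFPAt f F (X.basicOpen t) V := by
  obtain ⟨h, H⟩ := H
  have h' : X.basicOpen t ≤ f ⁻¹ᵁ V := (X.basicOpen_le t).trans h
  refine ⟨h', ?_⟩
  letI := (f.appLE V U h).hom.toAlgebra
  letI := (f.appLE V (X.basicOpen t) h').hom.toAlgebra
  letI := Module.compHom Γ(F, X.basicOpen t) (algebraMap Γ(X, U) Γ(X, X.basicOpen t))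
  haveI : IsScalarTower Γ(X, U) Γ(X, X.basicOpen t) Γ(F, X.basicOpen t) :=
    .of_algebraMap_smul fun _ _ => rfl
  haveI := hU.isLocalization_basicOpen t
  haveI : Algebra.FinitePresentation Γ(X, U) Γ(X, X.basicOpen t) :=
    IsLocalization.Away.finitePresentation t
  haveI : IsScalarTower Γ(S, V) Γ(X, U) Γ(X, X.basicOpen t) :=
    IsScalarTower.of_algebraMap_eq' (congrArg CommRingCat.Hom.hom
      (Scheme.Hom.appLE_map f h (homOfLE (X.basicOpen_le t)).op)).symm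
  haveI := H29Fitt.isLocalizedModule_resLin F hF hU t
  exact relFP_pullback (H29Fitt.resLin F t)
    ((isLocalizedModule_iff_isBaseChange (Submonoid.powers t) Γ(X, X.basicOpen t) _).mp inferInstance) H

/-- Shrink the base to a basic open. -/
theorem RFPAt.base_basicOpen {U : X.Opens} {V : S.Opens} (hV : IsAffineOpen V)
    (H : RFPAt f F U V) (r : Γ(S, V)) (hr : U ≤ f ⁻¹ᵁ S.basicOpen r) :
    RFPAt f F U (S.basicOpen r) := by
  obtain ⟨h, H⟩ := H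
  refine ⟨hr, ?_⟩
  letI := (f.appLE V U h).hom.toAlgebra
  letI := (f.appLE (S.basicOpen r) U hr).hom.toAlgebra
  haveI := hV.isLocalization_basicOpen r
  haveI : Algebra.FinitePresentation Γ(S, V) Γ(S, S.basicOpen r) :=
    IsLocalization.Away.finitePresentation r
  haveI : IsScalarTower Γ(S, V) Γ(S, S.basicOpen r) Γ(X, U) :=
    IsScalarTower.of_algebraMap_eq' (congrArg CommRingCat.Hom.hom
      (Scheme.Hom.map_appLE f hr (homOfLE (S.basicOpen_le r)).op)).symm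
  exact relFP_of_comp H

/-- Enlarge the base from a basic open. -/
theorem RFPAt.of_base_basicOpen {U : X.Opens} {V : S.Opens} (hV : IsAffineOpen V) (r : Γ(S, V))
    (H : RFPAt f F U (S.basicOpen r)) : RFPAt f F U V := by
  obtain ⟨hr, H⟩ := H
  have h : U ≤ f ⁻¹ᵁ V := hr.trans (f.preimage_mono (S.basicOpen_le r))
  refine ⟨h, ?_⟩
  letI := (f.appLE V U h).hom.toAlgebra
  letI := (f.appLE (S.basicOpen r) U hr).hom.toAlgebra
  haveI := hV.isLocalization_basicOpen r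
  haveI : Algebra.FinitePresentation Γ(S, V) Γ(S, S.basicOpen r) :=
    IsLocalization.Away.finitePresentation r
  haveI : IsScalarTower Γ(S, V) Γ(S, S.basicOpen r) Γ(X, U) :=
    IsScalarTower.of_algebraMap_eq' (congrArg CommRingCat.Hom.hom
      (Scheme.Hom.map_appLE f hr (homOfLE (S.basicOpen_le r)).op)).symm
  exact relFP_comp H

/-- Locality on the source. -/
theorem rfpAt_of_span [LocallyOfFiniteType f] (hF : Coh.IsQCoh F) {U : X.Opens} {V : S.Opens}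
    (hU : IsAffineOpen U) (hV : IsAffineOpen V) (h : U ≤ f ⁻¹ᵁ V) (s : Set Γ(X, U))
    (hs : Ideal.span s = ⊤) (H : ∀ t ∈ s, RFPAt f F (X.basicOpen t) V) : RFPAt f F U V := by
  refine ⟨h, ?_⟩
  letI := (f.appLE V U h).hom.toAlgebra
  haveI : Algebra.FiniteType Γ(S, V) Γ(X, U) := f.finiteType_appLE hV hU h
  letI (t : s) := (f.appLE V (X.basicOpen t.1) ((X.basicOpen_le t.1).trans h)).hom.toAlgebra
  letI (t : s) := Module.compHom Γ(F, X.basicOpen t.1) (algebraMap Γ(X, U) Γ(X, X.basicOpen t.1))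
  haveI (t : s) : IsScalarTower Γ(X, U) Γ(X, X.basicOpen t.1) Γ(F, X.basicOpen t.1) :=
    .of_algebraMap_smul fun _ _ => rfl
  haveI (t : s) := hU.isLocalization_basicOpen t.1
  haveI (t : s) : IsScalarTower Γ(S, V) Γ(X, U) Γ(X, X.basicOpen t.1) :=
    IsScalarTower.of_algebraMap_eq' (congrArg CommRingCat.Hom.hom
      (Scheme.Hom.appLE_map f h (homOfLE (X.basicOpen_le t.1)).op)).symm
  haveI (t : s) := H29Fitt.isLocalizedModule_resLin F hF hU t.1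
  exact relFP_of_span s hs (fun t => Γ(X, X.basicOpen t.1)) (fun t => Γ(F, X.basicOpen t.1))
    (fun t => H29Fitt.resLin F t.1) fun t => (H t.1 t.2).2

/-- Move a pair to a given base open, near a point. -/
theorem rfpAt_near (hF : Coh.IsQCoh F) {U₀ : X.Opens} {V₀ V : S.Opens} (hU₀ : IsAffineOpen U₀)
    (hV₀ : IsAffineOpen V₀) (hV : IsAffineOpen V) (H : RFPAt f F U₀ V₀) {x : X} (hx : x ∈ U₀)
    (hxV : f x ∈ V) (O : X.Opens) (hxO : x ∈ O) :
    ∃ U : X.Opens, IsAffineOpen U ∧ x ∈ U ∧ U ≤ O ∧ RFPAt f F U V := by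
  obtain ⟨r₀, r, hr, hxr⟩ := exists_basicOpen_le_affine_inter hV₀ hV (f x) ⟨H.1 hx, hxV⟩
  obtain ⟨t, ht, hxt⟩ := hU₀.exists_basicOpen_le (V := O ⊓ f ⁻¹ᵁ S.basicOpen r₀)
    ⟨x, hxO, hxr⟩ hx
  have h1 : RFPAt f F (X.basicOpen t) (S.basicOpen r₀) :=
    (H.basicOpen hF hU₀ t).base_basicOpen hV₀ r₀ (ht.trans inf_le_right)
  rw [hr] at h1
  exact ⟨_, hU₀.basicOpen t, hxt, ht.trans inf_le_left, h1.of_base_basicOpen hV r⟩

theorem exists_rfpAt (H : Flatn.IsRelFP f F) (x : X) :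
    ∃ (U : X.Opens) (V : S.Opens), IsAffineOpen U ∧ IsAffineOpen V ∧ x ∈ U ∧ RFPAt f F U V := by
  obtain ⟨𝒱, h𝒱, H⟩ := H
  have hfx : f x ∈ (⨆ V ∈ 𝒱, (V : S.Opens)) := by rw [h𝒱]; trivial
  simp only [Opens.mem_iSup] at hfx
  obtain ⟨V, hV, hxV⟩ := hfx
  obtain ⟨𝒰, h𝒰, H⟩ := H V hV
  have hx : x ∈ (⨆ U ∈ 𝒰, (U : X.Opens)) := by rw [h𝒰]; exact hxV
  simp only [Opens.mem_iSup] at hx
  obtain ⟨U, hU, hxU⟩ := hx
  have h : (U : X.Opens) ≤ f ⁻¹ᵁ (V : S.Opens) := h𝒰 ▸ le_iSup₂_of_le U hU le_rfl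
  exact ⟨U, V, U.2, V.2, hxU, h, H U hU h⟩

/-- The property can be tested on any pair of affine opens. -/
theorem rfpAt_of_isRelFP [LocallyOfFiniteType f] (hF : Coh.IsQCoh F) (H : Flatn.IsRelFP f F)
    {U : X.Opens} {V : S.Opens} (hU : IsAffineOpen U) (hV : IsAffineOpen V) (h : U ≤ f ⁻¹ᵁ V) :
    RFPAt f F U V := by
  refine rfpAt_of_span hF hU hV h {t | RFPAt f F (X.basicOpen t) V} ?_ fun t ht => ht
  rw [← hU.self_le_iSup_basicOpen_iff]
  intro x hx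
  obtain ⟨U₀, V₀, hU₀, hV₀, hx₀, H₀⟩ := exists_rfpAt H x
  obtain ⟨U₁, hU₁, hx₁, -, H₁⟩ := rfpAt_near hF hU₀ hV₀ hV H₀ hx₀ (h hx) U hx
  obtain ⟨g₁, g, hg, hxg⟩ := exists_basicOpen_le_affine_inter hU₁ hU x ⟨hx₁, hx⟩
  have := H₁.basicOpen hF hU₁ g₁
  rw [hg] at this hxg
  exact Opens.mem_iSup.2 ⟨⟨g, this⟩, hxg⟩

/-- The property only has to be checked near every point. -/
theorem isRelFP_of_local (hF : Coh.IsQCoh F)
    (H : ∀ x : X, ∃ (U : X.Opens) (V : S.Opens),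
      IsAffineOpen U ∧ IsAffineOpen V ∧ x ∈ U ∧ RFPAt f F U V) : Flatn.IsRelFP f F := by
  refine ⟨Set.univ, ?_, fun V _ => ⟨{U | RFPAt f F U V}, ?_, fun U hU h => hU.2⟩⟩
  · simp only [Set.mem_univ, iSup_pos]
    exact iSup_affineOpens_eq_top S
  · refine le_antisymm (iSup₂_le fun U hU => hU.1) fun x hx => ?_
    obtain ⟨U₀, V₀, hU₀, hV₀, hx₀, H₀⟩ := H x
    obtain ⟨U₁, hU₁, hx₁, -, H₁⟩ := rfpAt_near hF hU₀ hV₀ V.2 H₀ hx₀ hx ⊤ trivial
    simp only [Opens.mem_iSup]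
    exact ⟨⟨U₁, hU₁⟩, H₁, hx₁⟩

/-- Composition with a locally finitely presented morphism. -/
theorem isRelFP_comp {Y : Scheme.{u}} (f : X ⟶ Y) (g : Y ⟶ S) [LocallyOfFiniteType f]
    [LocallyOfFinitePresentation g] (hF : Coh.IsQCoh F) (H : Flatn.IsRelFP f F) :
    Flatn.IsRelFP (f ≫ g) F := by
  refine isRelFP_of_local hF fun x => ?_
  obtain ⟨_, ⟨V, hV, rfl⟩, hxV, -⟩ :=
    S.isBasis_affineOpens.exists_subset_of_mem_open (Set.mem_univ (g (f x))) isOpen_univ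
  obtain ⟨_, ⟨W, hW, rfl⟩, hxW, hWV⟩ :=
    Y.isBasis_affineOpens.exists_subset_of_mem_open hxV (g ⁻¹ᵁ V).isOpen
  obtain ⟨_, ⟨U, hU, rfl⟩, hxU, hUW⟩ :=
    X.isBasis_affineOpens.exists_subset_of_mem_open hxW (f ⁻¹ᵁ W).isOpen
  obtain ⟨h₁, H₁⟩ := rfpAt_of_isRelFP hF H hU hW hUW
  have h : U ≤ (f ≫ g) ⁻¹ᵁ V := fun y hy => hWV (hUW hy)
  refine ⟨U, V, hU, hV, hxU, h, ?_⟩
  letI := (f.appLE W U h₁).hom.toAlgebra
  letI := (g.appLE V W hWV).hom.toAlgebra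
  letI := ((f ≫ g).appLE V U h).hom.toAlgebra
  haveI : Algebra.FinitePresentation Γ(S, V) Γ(Y, W) := g.finitePresentation_appLE hV hW hWV
  haveI : IsScalarTower Γ(S, V) Γ(Y, W) Γ(X, U) :=
    IsScalarTower.of_algebraMap_eq' (congrArg CommRingCat.Hom.hom
      (Scheme.Hom.appLE_comp_appLE f g V W U hWV h₁)).symm
  exact relFP_comp H₁

end Groth.Agent.H8Props.RelFP
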