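import Groth.Agent.H8Props.RelFP.Ring

/-!
# Pullback, base change, finite maps and locality for relative finite presentation
-/

set_option autoImplicit false
set_option linter.style.haveILetI false

universe u

open TensorProduct MvPolynomial

namespace Groth.Agent.H8Props.RelFP

open PseudoCoh

variable {R S : Type u} [CommRing R] [CommRing S] [Algebra R S] {N : Type u} [AddCommGroup N]
  [Module S N]

/-- Identity as a base change along a surjection. -/
theorem isBaseChange_id {P : Type u} [CommRing P] [Algebra P S] [Module P N] [IsScalarTower P S N]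
    (hs : Function.Surjective (algebraMap P S)) : IsBaseChange S (LinearMap.id : N →ₗ[P] N) := by
  apply IsBaseChange.of_lift_unique
  intro Q _ _ _ _ h
  refine ⟨{ toFun := h, map_add' := map_add h, map_smul' := fun s n => ?_ }, rfl, fun h' hh' => ?_⟩
  · obtain ⟨p, rfl⟩ := hs s
    simp only [RingHom.id_apply, algebraMap_smul, map_smul]
  · exact LinearMap.ext fun n => LinearMap.congr_fun hh' n

/-- The finite presentation of an algebra with variables in the universe of the rings. -/
theorem exists_fp_presentation (A B : Type u) [CommRing A] [CommRing B] [Algebra A B]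
    [Algebra.FinitePresentation A B] :
    ∃ (m : ℕ) (ψ : MvPolynomial (ULift.{u} (Fin m)) A →ₐ[A] B),
      Function.Surjective ψ ∧ (RingHom.ker ψ.toRingHom).FG := by
  obtain ⟨m, φ₀, hφ₀, hker₀⟩ := (inferInstance : Algebra.FinitePresentation A B).out
  let ren := MvPolynomial.renameEquiv A (Equiv.ulift.{u, 0} (α := Fin m))
  exact ⟨m, φ₀.comp ren.toAlgHom, hφ₀.comp ren.surjective,
    fg_ker_comp_bijective φ₀.toRingHom ren.toAlgHom.toRingHom ren.bijective hker₀⟩

/-- Inverse image along a finitely presented algebra. -/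
theorem relFP_pullback {T : Type u} [CommRing T] [Algebra S T] [Algebra R T] [IsScalarTower R S T]
    [Algebra.FinitePresentation S T] {N' : Type u} [AddCommGroup N'] [Module T N'] [Module S N']
    [IsScalarTower S T N'] (g : N →ₗ[S] N') (hg : IsBaseChange T g)
    (h : FlatCA.RelFinitePresentation R S N) : FlatCA.RelFinitePresentation R T N' := by
  classical
  obtain ⟨n, φ, hφ, hn⟩ := exists_presentation h
  obtain ⟨m, ψ, hψ, hJ⟩ := exists_fp_presentation S T
  let P := MvPolynomial (ULift.{u} (Fin n)) R
  letI : Algebra P S := φ.toRingHom.toAlgebra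
  letI : Algebra P T := ((algebraMap S T).comp φ.toRingHom).toAlgebra
  haveI : IsScalarTower P S T := IsScalarTower.of_algebraMap_eq fun _ => rfl
  letI : Module P N := Module.compHom N φ.toRingHom
  haveI : IsScalarTower P S N := .of_algebraMap_smul fun _ _ => rfl
  haveI : Module.FinitePresentation P N := fpk_one_iff.mp hn
  let mp : MvPolynomial (ULift.{u} (Fin m)) P →+* MvPolynomial (ULift.{u} (Fin m)) S :=
    MvPolynomial.map φ.toRingHom
  have hmp : Function.Surjective mp := MvPolynomial.map_surjective φ.toRingHom hφ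
  let ρ : MvPolynomial (ULift.{u} (Fin m)) P →+* T := ψ.toRingHom.comp mp
  letI : Algebra (MvPolynomial (ULift.{u} (Fin m)) P) T := ρ.toAlgebra
  haveI : IsScalarTower P (MvPolynomial (ULift.{u} (Fin m)) P) T :=
    IsScalarTower.of_algebraMap_eq fun p => by
      show algebraMap S T (φ p) = ψ (MvPolynomial.map φ.toRingHom (C p))
      rw [MvPolynomial.map_C]
      exact (ψ.commutes _).symm
  -- finite presentation of `T ⊗[P] N`
  let PY := MvPolynomial (ULift.{u} (Fin m)) P
  let F : PY ⊗[P] N →ₗ[PY] T ⊗[P] N :=
    AlgebraTensorModule.map (Algebra.linearMap PY T) LinearMap.id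
  have hρ : Function.Surjective ρ := hψ.comp hmp
  have hF : Function.Surjective F := fun z => by
    induction z using TensorProduct.induction_on with
    | zero => exact ⟨0, map_zero F⟩
    | tmul t x =>
      obtain ⟨p, rfl⟩ := hρ t
      exact ⟨p ⊗ₜ x, rfl⟩
    | add a b ha hb =>
      obtain ⟨a, rfl⟩ := ha
      obtain ⟨b, rfl⟩ := hb
      exact ⟨a + b, map_add F a b⟩
  obtain ⟨J, hJspan⟩ := hJ
  choose lift hlift using hmp
  obtain ⟨G, hG⟩ := (Module.Finite.fg_top : (⊤ : Submodule P N).FG)
  have hFK : (LinearMap.ker F).FG := by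
    refine ⟨(J ×ˢ G).image fun jn => lift jn.1 ⊗ₜ[P] jn.2, le_antisymm ?_ ?_⟩
    · rw [Submodule.span_le]
      intro z hz
      obtain ⟨⟨j, x⟩, hjx, rfl⟩ := Finset.mem_image.1 hz
      show F (lift j ⊗ₜ x) = 0
      have hj : ψ.toRingHom j = 0 :=
        RingHom.mem_ker.1 (hJspan.le (Submodule.subset_span (Finset.mem_product.1 hjx).1))
      show ρ (lift j) ⊗ₜ[P] x = 0
      rw [show ρ (lift j) = ψ.toRingHom j from congrArg ψ.toRingHom (hlift j), hj,
        TensorProduct.zero_tmul]
    · intro z hz
      let sp : Submodule PY (PY ⊗[P] N) :=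
        Submodule.span PY (((J ×ˢ G).image fun jn => lift jn.1 ⊗ₜ[P] jn.2 : Finset _) : Set (PY ⊗[P] N))
      change z ∈ sp
      -- each kernel element of `ρ` gives elements of the span
      have hmap : ∀ (a : PY), mp a = 0 → ∀ x : N, a ⊗ₜ[P] x = 0 := fun a ha x => by
        rw [MvPolynomial.as_sum a, TensorProduct.sum_tmul]
        refine Finset.sum_eq_zero fun d _ => ?_
        have hc : φ (MvPolynomial.coeff d a) = 0 := by
          have := congrArg (MvPolynomial.coeff d) ha
          rwa [MvPolynomial.coeff_map, MvPolynomial.coeff_zero] at this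
        rw [show (MvPolynomial.monomial d (MvPolynomial.coeff d a) : PY) =
            MvPolynomial.coeff d a • MvPolynomial.monomial d 1 by
              rw [MvPolynomial.smul_monomial, smul_eq_mul, mul_one],
          TensorProduct.smul_tmul,
          show MvPolynomial.coeff d a • x = 0 from
            (congrArg (· • x) hc).trans (zero_smul S x),
          TensorProduct.tmul_zero]
      have hgen : ∀ (j : MvPolynomial (ULift.{u} (Fin m)) S), j ∈ J → ∀ x : N, lift j ⊗ₜ[P] x ∈ sp := by
        intro j hj x
        have hx : x ∈ Submodule.span P (G : Set N) := hG ▸ Submodule.mem_top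
        induction hx using Submodule.span_induction with
        | mem x hx =>
          exact Submodule.subset_span (Finset.mem_image.2 ⟨(j, x), Finset.mem_product.2 ⟨hj, hx⟩, rfl⟩)
        | zero => rw [TensorProduct.tmul_zero]; exact sp.zero_mem
        | add a b _ _ ha hb => rw [TensorProduct.tmul_add]; exact sp.add_mem ha hb
        | smul c a _ ha =>
          rw [TensorProduct.tmul_smul]
          exact sp.smul_of_tower_mem c ha
      have hker : ∀ a : PY, ρ a = 0 → ∀ x : N, a ⊗ₜ[P] x ∈ sp := by
        intro a ha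
        have hmem : mp a ∈ Submodule.span (MvPolynomial (ULift.{u} (Fin m)) S)
            (J : Set (MvPolynomial (ULift.{u} (Fin m)) S)) :=
          hJspan.ge (show mp a ∈ RingHom.ker ψ.toRingHom from ha)
        suffices key : ∀ b ∈ Submodule.span (MvPolynomial (ULift.{u} (Fin m)) S)
            (J : Set (MvPolynomial (ULift.{u} (Fin m)) S)), ∀ x : N, lift b ⊗ₜ[P] x ∈ sp by
          intro x
          have e0 : (a - lift (mp a)) ⊗ₜ[P] x = 0 :=
            hmap (a - lift (mp a)) (by rw [map_sub, hlift, sub_self]) x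
          rw [TensorProduct.sub_tmul, sub_eq_zero] at e0
          rw [e0]
          exact key _ hmem x
        intro b hb
        have congr' : ∀ (p : PY) (b : MvPolynomial (ULift.{u} (Fin m)) S), mp p = b →
            ∀ x : N, p ⊗ₜ[P] x = lift b ⊗ₜ[P] x := fun p b hp x => by
          rw [← sub_eq_zero, ← TensorProduct.sub_tmul]
          exact hmap _ (by rw [map_sub, hlift, hp, sub_self]) x
        induction hb using Submodule.span_induction with
        | mem b hb => exact hgen b hb
        | zero => intro x; rw [← congr' 0 0 (map_zero mp), TensorProduct.zero_tmul]; exact sp.zero_mem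
        | add b c _ _ hb hc =>
          intro x
          rw [← congr' (lift b + lift c) (b + c) (by rw [map_add, hlift, hlift]), TensorProduct.add_tmul]
          exact sp.add_mem (hb x) (hc x)
        | smul c b _ hb =>
          intro x
          rw [← congr' (lift c * lift b) (c • b) (by rw [map_mul, hlift, hlift]; rfl),
            ← smul_eq_mul, ← TensorProduct.smul_tmul']
          exact sp.smul_mem _ (hb x)
      let L : PY →ₗ[P] T := (Algebra.linearMap PY T).restrictScalars P
      have hLs : Function.Surjective L := fun t => hρ t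
      have hEx : Function.Exact (LinearMap.ker L).subtype L := LinearMap.exact_subtype_ker_map L
      have hex : Function.Exact ((LinearMap.ker L).subtype.rTensor N) (L.rTensor N) :=
        rTensor_exact (M := (LinearMap.ker L : Submodule P PY)) N hEx hLs
      obtain ⟨w, rfl⟩ := (hex z).1 (show LinearMap.rTensor N L z = 0 from hz)
      clear hz
      induction w using TensorProduct.induction_on with
      | zero => rw [map_zero]; exact sp.zero_mem
      | tmul a x => exact hker a.1 (LinearMap.mem_ker.1 a.2) x
      | add a b ha hb => rw [map_add]; exact sp.add_mem ha hb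
  haveI hfp : Module.FinitePresentation PY (T ⊗[P] N) :=
    Module.finitePresentation_of_surjective (R := PY) (M := PY ⊗[P] N) F hF hFK
  -- transport to `N'`
  letI : Module P N' := Module.compHom N' (algebraMap P S)
  haveI : IsScalarTower P S N' := .of_algebraMap_smul fun _ _ => rfl
  haveI : IsScalarTower P T N' := .of_algebraMap_smul fun p x => by
    show algebraMap S T (φ p) • x = φ p • x
    rw [algebraMap_smul]
  have hbc := (isBaseChange_id (N := N) (hφ : Function.Surjective (algebraMap P S))).comp hg
  have h1 : FP1 ρ N' := by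
    refine FP1.of_semilinear ρ ρ hbc.equiv.toAddEquiv.toAddMonoidHom hbc.equiv.bijective
      (fun p z => hbc.equiv.map_smul (ρ p) z) ((fp1_iff ρ fun p z => ?_).2 (fpk_one_iff.mpr hfp))
    exact algebraMap_smul T p z
  have hc : ∀ r, ψ.toRingHom (C (algebraMap R S r)) = algebraMap R T r := fun r => by
    rw [IsScalarTower.algebraMap_apply R S T]
    exact ψ.commutes _
  refine relFP_of_presentation (combine φ ψ.toRingHom hc)
    (surjective_combine φ ψ.toRingHom hc hφ hψ) ?_
  exact (FP1.comp_iff ρ (g := (MvPolynomial.sumAlgEquiv R _ _).toAlgHom.toRingHom)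
    (q1_of_bijective (MvPolynomial.sumAlgEquiv R (ULift.{u} (Fin m)) (ULift.{u} (Fin n))).bijective)).mpr h1

/-- Relative finite presentation along a finite algebra. -/
theorem relFP_finite_iff {T : Type u} [CommRing T] [Algebra S T] [Algebra R T] [IsScalarTower R S T]
    [Module.Finite S T] [Algebra.FiniteType R S] {N : Type u} [AddCommGroup N] [Module T N]
    [Module S N] [IsScalarTower S T N] :
    FlatCA.RelFinitePresentation R T N ↔ FlatCA.RelFinitePresentation R S N := by
  obtain ⟨n, φ₀, hφ₀⟩ :=
    Algebra.FiniteType.iff_quotient_mvPolynomial''.mp (inferInstance : Algebra.FiniteType R S)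
  let ren := MvPolynomial.renameEquiv R (Equiv.ulift.{u, 0} (α := Fin n))
  let φ := φ₀.comp ren.toAlgHom
  have hφ : Function.Surjective φ := hφ₀.comp ren.surjective
  let P := MvPolynomial (ULift.{u} (Fin n)) R
  letI : Algebra P S := φ.toRingHom.toAlgebra
  letI : Algebra P T := ((algebraMap S T).comp φ.toRingHom).toAlgebra
  haveI : IsScalarTower P S T := IsScalarTower.of_algebraMap_eq fun _ => rfl
  haveI : Module.Finite P S := Module.Finite.of_surjective (Algebra.linearMap P S) hφ
  haveI : Module.Finite P T := Module.Finite.trans S T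
  haveI : IsScalarTower R P T := IsScalarTower.of_algebraMap_eq fun r => by
    show _ = algebraMap S T (φ (algebraMap R P r))
    rw [φ.commutes, ← IsScalarTower.algebraMap_apply]
  obtain ⟨C, _, _, π, hπ, _, _, hC⟩ := exists_finite_free_cover (A := P) (B := T)
  obtain ⟨m, χ₀, hχ₀, -⟩ := isPseudoCoherentHom_iff.mp hC
  let ren' := MvPolynomial.renameEquiv P (Equiv.ulift.{u, 0} (α := Fin m))
  let χ := χ₀.comp ren'.toAlgHom
  have hχ : Function.Surjective χ := hχ₀.comp ren'.surjective
  have hχr : RFP χ.toRingHom := rfp_of_isPseudoCoherentHom hC χ hχ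
  -- the presentation of `T` over `R`
  let e := MvPolynomial.sumAlgEquiv R (ULift.{u} (Fin m)) (ULift.{u} (Fin n))
  let Ψ : MvPolynomial (ULift.{u} (Fin m) ⊕ ULift.{u} (Fin n)) R →ₐ[R] T :=
    ((π.comp χ).restrictScalars R).comp e.toAlgHom
  have hΨ : Function.Surjective Ψ := (hπ.comp hχ).comp e.surjective
  have key : FP1 φ.toRingHom N ↔ FP1 Ψ.toRingHom N := by
    have h1 : FP1 Ψ.toRingHom N ↔ FP1 π.toRingHom N := by
      rw [show Ψ.toRingHom = (π.toRingHom.comp χ.toRingHom).comp e.toAlgHom.toRingHom from rfl,
        FP1.comp_iff _ (g := e.toAlgHom.toRingHom) (q1_of_bijective e.bijective),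
        FP1.comp_iff _ (q1_of_rfp hχr)]
    have h2 : FP1 π.toRingHom N ↔ FP1 (π.toRingHom.comp (algebraMap P C)) N :=
      (FP1.comp_iff _ (q1_of_rfp (rfp_algebraMap.mpr (fpInf_of_finite_projective C)))).symm
    rw [h1, h2, show π.toRingHom.comp (algebraMap P C) = (algebraMap S T).comp φ.toRingHom from
      RingHom.ext π.commutes]
    letI : Module P N := Module.compHom N φ.toRingHom
    rw [fp1_iff φ.toRingHom fun _ _ => rfl, fp1_iff ((algebraMap S T).comp φ.toRingHom) fun p x => ?_]
    show algebraMap S T (φ p) • x = φ p • x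
    rw [algebraMap_smul]
  exact ⟨fun h => relFP_of_presentation φ hφ (key.2 (fp1_of_relFP h Ψ hΨ)),
    fun h => relFP_of_presentation Ψ hΨ (key.1 (fp1_of_relFP h φ hφ))⟩

/-- Locality on the algebra. -/
theorem relFP_of_span [Algebra.FiniteType R S] (s : Set S) (hs : Ideal.span s = ⊤)
    (Sg : s → Type u) [∀ g, CommRing (Sg g)] [∀ g, Algebra S (Sg g)] [∀ g, Algebra R (Sg g)]
    [∀ g, IsScalarTower R S (Sg g)] [∀ g : s, IsLocalization.Away g.1 (Sg g)]
    (Ng : s → Type u) [∀ g, AddCommGroup (Ng g)] [∀ g, Module (Sg g) (Ng g)]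
    [∀ g, Module S (Ng g)] [∀ g, IsScalarTower S (Sg g) (Ng g)]
    (ℓ : ∀ g : s, N →ₗ[S] Ng g) [∀ g : s, IsLocalizedModule (Submonoid.powers g.1) (ℓ g)]
    (H : ∀ g, FlatCA.RelFinitePresentation R (Sg g) (Ng g)) :
    FlatCA.RelFinitePresentation R S N := by
  obtain ⟨n, φ₀, hφ₀⟩ :=
    Algebra.FiniteType.iff_quotient_mvPolynomial''.mp (inferInstance : Algebra.FiniteType R S)
  let ren := MvPolynomial.renameEquiv R (Equiv.ulift.{u, 0} (α := Fin n))
  let φ := φ₀.comp ren.toAlgHom
  have hφ : Function.Surjective φ := hφ₀.comp ren.surjective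
  refine relFP_of_presentation φ hφ ?_
  let P := MvPolynomial (ULift.{u} (Fin n)) R
  let s' : Set P := φ ⁻¹' (s ∪ {0})
  have hs' : Ideal.span s' = ⊤ := by
    have h1 : Ideal.map φ.toRingHom (Ideal.span s') = ⊤ := by
      rw [Ideal.map_span, ← top_le_iff, ← hs]
      exact Ideal.span_mono fun b hb => by
        obtain ⟨x, rfl⟩ := hφ b
        exact ⟨x, Or.inl hb, rfl⟩
    have hk : RingHom.ker φ.toRingHom ≤ Ideal.span s' := fun x hx =>
      Ideal.subset_span (Or.inr hx)
    have h2 := congrArg (Ideal.comap φ.toRingHom) h1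
    rwa [Ideal.comap_map_of_surjective φ.toRingHom hφ, Ideal.comap_top, ← RingHom.ker_eq_comap_bot,
      sup_eq_left.mpr hk] at h2
  letI : Algebra P S := φ.toRingHom.toAlgebra
  letI : Module P N := Module.compHom N φ.toRingHom
  haveI : IsScalarTower P S N := .of_algebraMap_smul fun _ _ => rfl
  show FPk P 1 N
  refine FPk.of_span s' hs' fun h hh => ?_
  let Ph := Localization.Away h
  rcases hh with hh | hh
  · let g : s := ⟨φ h, hh⟩
    haveI : IsLocalization.Away (φ.toRingHom h) (Sg g) :=
      (inferInstance : IsLocalization.Away g.1 (Sg g))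
    let lam : Ph →+* Sg g := IsLocalization.Away.map Ph (Sg g) φ.toRingHom h
    have hlam : ∀ x, lam (algebraMap P Ph x) = algebraMap S (Sg g) (φ x) := fun x =>
      IsLocalization.map_eq _ x
    letI : Algebra Ph (Sg g) := lam.toAlgebra
    letI : Algebra P (Sg g) := ((algebraMap S (Sg g)).comp φ.toRingHom).toAlgebra
    haveI : IsScalarTower P Ph (Sg g) := IsScalarTower.of_algebraMap_eq fun x => (hlam x).symm
    haveI : IsScalarTower R Ph (Sg g) := IsScalarTower.of_algebraMap_eq fun a => by
      rw [IsScalarTower.algebraMap_apply R P Ph, IsScalarTower.algebraMap_apply R S (Sg g)]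
      exact ((hlam _).trans (congrArg (algebraMap S (Sg g)) (φ.commutes a))).symm
    have hlsurj : Function.Surjective (IsScalarTower.toAlgHom R Ph (Sg g)) := fun z => by
      obtain ⟨⟨b, ⟨_, k, rfl⟩⟩, hz⟩ := IsLocalization.surj (Submonoid.powers (φ h)) z
      obtain ⟨x, rfl⟩ := hφ b
      refine ⟨IsLocalization.mk' Ph x (⟨h ^ k, k, rfl⟩ : Submonoid.powers h), ?_⟩
      have hu : IsUnit (algebraMap S (Sg g) (φ h ^ k)) :=
        IsLocalization.map_units (Sg g) (⟨_, k, rfl⟩ : Submonoid.powers (φ h))
      refine hu.mul_right_cancel ?_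
      rw [hz, ← map_pow φ, ← hlam, show (IsScalarTower.toAlgHom R Ph (Sg g)) _ = lam _ from rfl,
        ← map_mul, IsLocalization.mk'_spec, hlam]
    obtain ⟨m, π₀, hπ₀, -⟩ := exists_fp_presentation P Ph
    let e := MvPolynomial.sumAlgEquiv R (ULift.{u} (Fin m)) (ULift.{u} (Fin n))
    let χ : MvPolynomial (ULift.{u} (Fin m) ⊕ ULift.{u} (Fin n)) R →ₐ[R] Sg g :=
      (IsScalarTower.toAlgHom R Ph (Sg g)).comp ((π₀.restrictScalars R).comp e.toAlgHom)
    have hlamFP : FP1 lam (Ng g) :=
      FP1.of_surjective lam (g := π₀.toRingHom.comp e.toAlgHom.toRingHom) (hπ₀.comp e.surjective)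
        (fp1_of_relFP (H g) χ (hlsurj.comp (hπ₀.comp e.surjective)))
    haveI : IsLocalizedModule (Submonoid.powers (φ h)) (ℓ g) :=
      (inferInstance : IsLocalizedModule (Submonoid.powers g.1) (ℓ g))
    letI : Module P (Ng g) := Module.compHom (Ng g) φ.toRingHom
    letI : Module Ph (Ng g) := Module.compHom (Ng g) lam
    haveI : IsScalarTower P Ph (Ng g) := .of_algebraMap_smul fun p x => by
      show lam (algebraMap P Ph p) • x = φ p • x
      rw [hlam, algebraMap_smul]
    let ℓP : N →ₗ[P] Ng g := { toFun := ℓ g, map_add' := map_add (ℓ g), map_smul' := fun p x => (ℓ g).map_smul (φ p) x }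
    haveI : IsLocalizedModule (Submonoid.powers h) ℓP := by
      refine ⟨fun x => ?_, fun y => ?_, fun {x₁ x₂} hx => ?_⟩
      · obtain ⟨_, k, rfl⟩ := x
        rw [Module.End.isUnit_iff]
        have hu := IsLocalizedModule.map_units (ℓ g) (⟨φ h ^ k, k, rfl⟩ : Submonoid.powers (φ h))
        rw [Module.End.isUnit_iff] at hu
        have e1 : ∀ z : Ng g, (algebraMap P (Module.End P (Ng g)) (h ^ k)) z =
            (algebraMap S (Module.End S (Ng g)) (φ h ^ k)) z := fun z => by
          show φ (h ^ k) • z = φ h ^ k • z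
          rw [map_pow]
        rw [show ⇑(algebraMap P (Module.End P (Ng g)) ((fun x => h ^ x) k)) =
          ⇑(algebraMap S (Module.End S (Ng g)) (φ h ^ k)) from funext e1]
        exact hu
      · obtain ⟨⟨x, ⟨_, k, rfl⟩⟩, hx⟩ := IsLocalizedModule.surj (Submonoid.powers (φ h)) (ℓ g) y
        refine ⟨(x, ⟨_, k, rfl⟩), ?_⟩
        show φ (h ^ k) • y = ℓ g x
        rw [map_pow]
        exact hx
      · obtain ⟨⟨_, k, rfl⟩, hk⟩ := IsLocalizedModule.exists_of_eq (S := Submonoid.powers (φ h)) (f := ℓ g) hx
        refine ⟨⟨_, k, rfl⟩, ?_⟩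
        show φ (h ^ k) • x₁ = φ (h ^ k) • x₂
        rw [map_pow]
        exact hk
    have hbc := IsLocalizedModule.isBaseChange (Submonoid.powers h) Ph ℓP
    exact ((fp1_iff lam fun _ _ => rfl).1 hlamFP).of_equiv hbc.equiv.symm
  · have hh0 : φ h = 0 := hh
    haveI : Subsingleton (Ph ⊗[P] N) := subsingleton_of_forall_eq 0 fun z => by
      induction z using TensorProduct.induction_on with
      | zero => rfl
      | tmul a b =>
        obtain ⟨e, he⟩ := IsLocalization.Away.algebraMap_isUnit (S := Ph) h
        calc a ⊗ₜ[P] b = (h • (↑e⁻¹ * a)) ⊗ₜ[P] b := by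
              rw [Algebra.smul_def, ← he, ← mul_assoc, Units.mul_inv, one_mul]
          _ = 0 := by
              rw [TensorProduct.smul_tmul, show h • b = φ h • b from rfl, hh0, zero_smul,
                TensorProduct.tmul_zero]
      | add x y hx hy => rw [hx, hy, add_zero]
    exact fpk_of_subsingleton 1 _

section BaseChange

attribute [local instance] MvPolynomial.algebraMvPolynomial

/-- Base change. -/
theorem relFP_baseChange {R' S' : Type u} [CommRing R'] [CommRing S'] [Algebra R R'] [Algebra S S']
    [Algebra R' S'] [Algebra R S'] [IsScalarTower R R' S'] [IsScalarTower R S S']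
    [Algebra.IsPushout R R' S S'] {N' : Type u} [AddCommGroup N'] [Module S' N'] [Module S N']
    [IsScalarTower S S' N'] (g : N →ₗ[S] N') (hg : IsBaseChange S' g)
    (h : FlatCA.RelFinitePresentation R S N) : FlatCA.RelFinitePresentation R' S' N' := by
  obtain ⟨n, φ, hφ, hn⟩ := exists_presentation h
  let σ := ULift.{u} (Fin n)
  let φ' : MvPolynomial σ R' →ₐ[R'] S' :=
    MvPolynomial.aeval fun i => algebraMap S S' (φ (MvPolynomial.X i))
  have hcomm : ∀ x : MvPolynomial σ R, φ' (MvPolynomial.map (algebraMap R R') x) =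
      algebraMap S S' (φ x) := fun x => by
    rw [show φ' (MvPolynomial.map (algebraMap R R') x) = MvPolynomial.aeval
      (fun i => algebraMap S S' (φ (MvPolynomial.X i))) x from MvPolynomial.aeval_map_algebraMap _ _ _]
    exact congrFun (congrArg DFunLike.coe (MvPolynomial.algHom_ext (fun i => by simp) :
      (MvPolynomial.aeval fun i => algebraMap S S' (φ (MvPolynomial.X i)) :
        MvPolynomial σ R →ₐ[R] S') = (IsScalarTower.toAlgHom R S S').comp φ)) x
  have hpush := (Algebra.IsPushout.out (R := R) (S := R') (R' := S) (S' := S'))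
  have hφ' : Function.Surjective φ' := fun z => by
    refine hpush.inductionOn z (fun z => ∃ a, φ' a = z) ⟨0, map_zero _⟩ ?_ ?_ ?_
    · intro b
      obtain ⟨x, rfl⟩ := hφ b
      exact ⟨MvPolynomial.map (algebraMap R R') x, hcomm x⟩
    · rintro r z ⟨a, rfl⟩
      exact ⟨r • a, map_smul φ' r a⟩
    · rintro z w ⟨a, rfl⟩ ⟨b, rfl⟩
      exact ⟨a + b, map_add φ' a b⟩
  refine relFP_of_presentation φ' hφ' ?_
  letI : Module (MvPolynomial σ R) N := Module.compHom N φ.toRingHom
  haveI : Module.FinitePresentation (MvPolynomial σ R) N := fpk_one_iff.mp hn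
  letI : Module R N := Module.compHom N (algebraMap R S)
  haveI : IsScalarTower R S N := .of_algebraMap_smul fun _ _ => rfl
  haveI : IsScalarTower R (MvPolynomial σ R) N := .of_algebraMap_smul fun r x => by
    show φ (algebraMap R (MvPolynomial σ R) r) • x = _
    rw [φ.commutes]
    rfl
  -- the comparison map
  letI : Module (MvPolynomial σ R') N' := Module.compHom N' φ'.toRingHom
  letI : Module (MvPolynomial σ R) N' := Module.compHom N' (algebraMap S S' |>.comp φ.toRingHom)
  haveI : IsScalarTower (MvPolynomial σ R) (MvPolynomial σ R') N' := .of_algebraMap_smul fun x z => by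
    show φ' (MvPolynomial.map (algebraMap R R') x) • z = algebraMap S S' (φ x) • z
    rw [hcomm]
  letI : Module R' N' := Module.compHom N' (algebraMap R' S')
  haveI : IsScalarTower R' S' N' := .of_algebraMap_smul fun _ _ => rfl
  let gP : N →ₗ[MvPolynomial σ R] N' :=
    { toFun := g, map_add' := map_add g,
      map_smul' := fun x z => (g.map_smul (φ x) z).trans (algebraMap_smul S' (φ x) (g z)).symm }
  let F : MvPolynomial σ R' ⊗[MvPolynomial σ R] N →ₗ[MvPolynomial σ R'] N' := gP.liftBaseChange _
  let e1 := Algebra.IsPushout.cancelBaseChange R R' (MvPolynomial σ R) (MvPolynomial σ R') N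
  let e2 := Algebra.IsPushout.cancelBaseChange R R' S S' N
  have key : ∀ w, F (e1.symm w) = hg.equiv (e2.symm w) := fun w => by
    induction w using TensorProduct.induction_on with
    | zero => simp only [map_zero]
    | tmul r x =>
      simp only [e1, e2, Algebra.IsPushout.cancelBaseChange_symm_tmul, F, LinearMap.liftBaseChange_tmul,
        hg.equiv_tmul]
      show φ' (algebraMap R' (MvPolynomial σ R') r) • g x = _
      rw [φ'.commutes]
    | add a b ha hb => simp only [map_add, ha, hb]
  have hF : Function.Bijective F := by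
    have : (F : _ → N') = hg.equiv ∘ e2.symm ∘ e1 := funext fun z => by
      rw [Function.comp_apply, Function.comp_apply, ← key, e1.symm_apply_apply]
    rw [this]
    exact hg.equiv.bijective.comp (e2.symm.bijective.comp e1.bijective)
  exact (fp1_iff φ'.toRingHom fun _ _ => rfl).2
    ((fpk_one_iff.mpr (inferInstance : Module.FinitePresentation (MvPolynomial σ R')
      (MvPolynomial σ R' ⊗[MvPolynomial σ R] N))).of_equiv (LinearEquiv.ofBijective F hF))

end BaseChange

end Groth.Agent.H8Props.RelFP
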