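import Groth.Agent.H8Props.RelFP.Scheme
import Groth.Agent.H10Coh.FinType2
import Groth.Agent.H10Coh.QCohOps

/-!
# Relative finite presentation: short exact sequences, summands, finite direct images
-/

set_option autoImplicit false
set_option linter.style.haveILetI false

universe u

open AlgebraicGeometry CategoryTheory Limits TopologicalSpace Opposite

namespace Groth.Agent.H8Props.RelFP

variable {X Y S : Scheme.{u}}

/-- A morphism of modules on sections, linearly. -/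
noncomputable def appLin {M N : X.Modules} (φ : M ⟶ N) (U : X.Opens) :
    Γ(M, U) →ₗ[Γ(X, U)] Γ(N, U) where
  toFun := φ.app U
  map_add' := map_add _
  map_smul' a m := φ.app_smul a m

theorem exists_chart (f : X ⟶ S) (x : X) :
    ∃ (U : X.Opens) (V : S.Opens), IsAffineOpen U ∧ IsAffineOpen V ∧ x ∈ U ∧ U ≤ f ⁻¹ᵁ V := by
  obtain ⟨_, ⟨V, hV, rfl⟩, hxV, -⟩ :=
    S.isBasis_affineOpens.exists_subset_of_mem_open (Set.mem_univ (f x)) isOpen_univ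
  obtain ⟨_, ⟨U, hU, rfl⟩, hxU, hUV⟩ :=
    X.isBasis_affineOpens.exists_subset_of_mem_open hxV (f ⁻¹ᵁ V).isOpen
  exact ⟨U, V, hU, hV, hxU, hUV⟩

variable (f : X ⟶ S) [LocallyOfFiniteType f]

theorem isRelFP_ext (E : ShortComplex X.Modules) (hE : E.ShortExact)
    (q₁ : Coh.IsQCoh E.X₁) (q₂ : Coh.IsQCoh E.X₂) (q₃ : Coh.IsQCoh E.X₃)
    (h₁ : Flatn.IsRelFP f E.X₁) (h₃ : Flatn.IsRelFP f E.X₃) : Flatn.IsRelFP f E.X₂ := by
  refine isRelFP_of_local q₂ fun x => ?_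
  obtain ⟨U, V, hU, hV, hx, h⟩ := exists_chart f x
  refine ⟨U, V, hU, hV, hx, h, ?_⟩
  letI := (f.appLE V U h).hom.toAlgebra
  have := hE.mono_f
  have := hE.epi_g
  refine relFP_ext (appLin E.f U) (appLin E.g U) (H10Coh.injective_app_of_mono' E.f U)
    (@H10Coh.surjective_app_of_epi _ _ _ E.g q₂ q₃ hE.epi_g _ hU)
    (fun y => ⟨H10Coh.exists_app_eq_of_exact hE U y, ?_⟩)
    (rfpAt_of_isRelFP q₁ h₁ hU hV h).2 (rfpAt_of_isRelFP q₃ h₃ hU hV h).2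
  rintro ⟨z, rfl⟩
  exact congr($(E.zero).app U z)

theorem isRelFP_quot (E : ShortComplex X.Modules) (hE : E.ShortExact)
    (q₁ : Coh.IsQCoh E.X₁) (q₂ : Coh.IsQCoh E.X₂) (q₃ : Coh.IsQCoh E.X₃)
    (h₁ : CohB1.IsFT E.X₁) (h₂ : Flatn.IsRelFP f E.X₂) : Flatn.IsRelFP f E.X₃ := by
  refine isRelFP_of_local q₃ fun x => ?_
  obtain ⟨U, V, hU, hV, hx, h⟩ := exists_chart f x
  refine ⟨U, V, hU, hV, hx, h, ?_⟩
  letI := (f.appLE V U h).hom.toAlgebra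
  have := hE.mono_f
  have := hE.epi_g
  haveI : Module.Finite Γ(X, U) Γ(E.X₁, U) := @H10Coh.finite_sections _ _ q₁ h₁ _ hU
  refine relFP_quot (appLin E.f U) (appLin E.g U) (H10Coh.injective_app_of_mono' E.f U)
    (@H10Coh.surjective_app_of_epi _ _ _ E.g q₂ q₃ hE.epi_g _ hU)
    (fun y => ⟨H10Coh.exists_app_eq_of_exact hE U y, ?_⟩)
    (rfpAt_of_isRelFP q₂ h₂ hU hV h).2
  rintro ⟨z, rfl⟩
  exact congr($(E.zero).app U z)

theorem isRelFP_of_retract {M N : X.Modules} (i : M ⟶ N) (p : N ⟶ M) (hip : i ≫ p = 𝟙 M)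
    (hM : Coh.IsQCoh M) (hN : Coh.IsQCoh N) (h : Flatn.IsRelFP f N) : Flatn.IsRelFP f M := by
  refine isRelFP_of_local hM fun x => ?_
  obtain ⟨U, V, hU, hV, hx, hle⟩ := exists_chart f x
  refine ⟨U, V, hU, hV, hx, hle, ?_⟩
  letI := (f.appLE V U hle).hom.toAlgebra
  exact relFP_retract (appLin i U) (appLin p U) (fun m => congr($(hip).app U m))
    (rfpAt_of_isRelFP hN h hU hV hle).2

theorem isRelFP_push_iff (π : X ⟶ Y) (g : Y ⟶ S) [IsFinite π] [LocallyOfFiniteType g]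
    {F : X.Modules} (hF : Coh.IsQCoh F) :
    Flatn.IsRelFP (π ≫ g) F ↔ Flatn.IsRelFP g ((Coh.push π).obj F) := by
  have hG : Coh.IsQCoh ((Coh.push π).obj F) :=
    @H10Coh.isQuasicoherent_pushforward_of_isAffineHom _ _ π _ F hF
  have key : ∀ {W : Y.Opens} {V : S.Opens}, IsAffineOpen W → IsAffineOpen V → W ≤ g ⁻¹ᵁ V →
      (RFPAt (π ≫ g) F (π ⁻¹ᵁ W) V ↔ RFPAt g ((Coh.push π).obj F) W V) := by
    intro W V hW hV hWV
    have h : π ⁻¹ᵁ W ≤ (π ≫ g) ⁻¹ᵁ V := π.preimage_mono hWV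
    letI := (g.appLE V W hWV).hom.toAlgebra
    letI := ((π ≫ g).appLE V (π ⁻¹ᵁ W) h).hom.toAlgebra
    letI := (π.app W).hom.toAlgebra
    haveI : IsScalarTower Γ(S, V) Γ(Y, W) Γ(X, π ⁻¹ᵁ W) :=
      IsScalarTower.of_algebraMap_eq' (congrArg CommRingCat.Hom.hom
        (show (π ≫ g).appLE V (π ⁻¹ᵁ W) h = g.appLE V W hWV ≫ π.app W by
          rw [π.app_eq_appLE, Scheme.Hom.appLE_comp_appLE]))
    haveI : Module.Finite Γ(Y, W) Γ(X, π ⁻¹ᵁ W) := π.finite_app W hW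
    haveI : Algebra.FiniteType Γ(S, V) Γ(Y, W) := g.finiteType_appLE hV hW hWV
    letI : Module Γ(Y, W) Γ(F, π ⁻¹ᵁ W) := Module.compHom _ (π.app W).hom
    haveI : IsScalarTower Γ(Y, W) Γ(X, π ⁻¹ᵁ W) Γ(F, π ⁻¹ᵁ W) :=
      .of_algebraMap_smul fun _ _ => rfl
    have key := relFP_finite_iff (R := Γ(S, V)) (S := Γ(Y, W)) (T := Γ(X, π ⁻¹ᵁ W))
      (N := Γ(F, π ⁻¹ᵁ W))
    exact ⟨fun H => ⟨hWV, key.1 H.2⟩, fun H => ⟨h, key.2 H.2⟩⟩
  constructor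
  · intro H
    refine isRelFP_of_local hG fun y => ?_
    obtain ⟨W, V, hW, hV, hy, hWV⟩ := exists_chart g y
    exact ⟨W, V, hW, hV, hy,
      (key hW hV hWV).1 (rfpAt_of_isRelFP hF H (hW.preimage π) hV (π.preimage_mono hWV))⟩
  · intro H
    refine isRelFP_of_local hF fun x => ?_
    obtain ⟨W, V, hW, hV, hy, hWV⟩ := exists_chart g (π x)
    exact ⟨π ⁻¹ᵁ W, V, hW.preimage π, hV, hy,
      (key hW hV hWV).2 (rfpAt_of_isRelFP hG H hW hV hWV)⟩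

end Groth.Agent.H8Props.RelFP
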