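import Groth.Agent.H8Props.RelFP.Ops
import Groth.Agent.H8Props.RelFP.PullSections
import Mathlib.AlgebraicGeometry.Morphisms.Flat

/-!
# Relative finite presentation under inverse image and base change
-/

set_option autoImplicit false
set_option linter.style.haveILetI false

universe u

open AlgebraicGeometry CategoryTheory Limits TopologicalSpace Opposite

namespace Groth.Agent.H8Props.RelFP

variable {X Y S : Scheme.{u}}

theorem isRelFP_pullback (f : X ⟶ Y) (g : Y ⟶ S) [LocallyOfFinitePresentation f]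
    [LocallyOfFiniteType g] {G : Y.Modules} (hG : Coh.IsQCoh G) (H : Flatn.IsRelFP g G) :
    Flatn.IsRelFP (f ≫ g) ((Scheme.Modules.pullback f).obj G) := by
  refine isRelFP_of_local (H29Fitt.isQCoh_pullback f G hG) fun x => ?_
  obtain ⟨W, V, hW, hV, hxW, hWV⟩ := exists_chart g (f x)
  obtain ⟨_, ⟨U, hU, rfl⟩, hxU, hUW⟩ :=
    X.isBasis_affineOpens.exists_subset_of_mem_open hxW (f ⁻¹ᵁ W).isOpen
  obtain ⟨h₀, H₀⟩ := rfpAt_of_isRelFP hG H hW hV hWV
  have h : U ≤ (f ≫ g) ⁻¹ᵁ V := fun y hy => hWV (hUW hy)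
  refine ⟨U, V, hU, hV, hxU, h, ?_⟩
  letI := (g.appLE V W h₀).hom.toAlgebra
  letI := (f.appLE W U hUW).hom.toAlgebra
  letI := ((f ≫ g).appLE V U h).hom.toAlgebra
  haveI : Algebra.FinitePresentation Γ(Y, W) Γ(X, U) := f.finitePresentation_appLE hW hU hUW
  haveI : IsScalarTower Γ(S, V) Γ(Y, W) Γ(X, U) :=
    IsScalarTower.of_algebraMap_eq' (congrArg CommRingCat.Hom.hom
      (Scheme.Hom.appLE_comp_appLE f g V W U h₀ hUW)).symm
  letI := Module.compHom Γ((Scheme.Modules.pullback f).obj G, U) (f.appLE W U hUW).hom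
  haveI : IsScalarTower Γ(Y, W) Γ(X, U) Γ((Scheme.Modules.pullback f).obj G, U) :=
    .of_algebraMap_smul fun _ _ => rfl
  exact relFP_pullback (PullSections.pullLin f G hUW)
    (PullSections.isBaseChange_pullLin f G hUW hG hW hU) H₀

theorem isRelFP_baseChange {X' S' : Scheme.{u}} (f : X ⟶ S) [LocallyOfFiniteType f] {F : X.Modules}
    (hF : Coh.IsQCoh F) (g : S' ⟶ S) (f' : X' ⟶ S') (g' : X' ⟶ X) (hc : IsPullback g' f' f g)
    (H : Flatn.IsRelFP f F) : Flatn.IsRelFP f' ((Scheme.Modules.pullback g').obj F) := by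
  refine isRelFP_of_local (H29Fitt.isQCoh_pullback g' F hF) fun x => ?_
  obtain ⟨U, V, hU, hV, hxU, hUV⟩ := exists_chart f (g' x)
  have hxV : g (f' x) ∈ V := by
    rw [← Scheme.Hom.comp_apply, ← hc.w]
    exact hUV hxU
  obtain ⟨_, ⟨V', hV', rfl⟩, hxV', hVV'⟩ :=
    S'.isBasis_affineOpens.exists_subset_of_mem_open hxV (g ⁻¹ᵁ V).isOpen
  let U' : X'.Opens := g' ⁻¹ᵁ U ⊓ f' ⁻¹ᵁ V'
  have hp : IsPushout (f.appLE V U hUV) (g.appLE V V' hVV')
      (g'.appLE U U' inf_le_left) (f'.appLE V' U' inf_le_right) :=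
    (isIso_pushoutSection_iff hc hVV' hUV (UY := U') rfl).mp
      (isIso_pushoutSection_of_isAffineOpen hc hVV' hUV rfl hV hV' hU)
  have hU' : IsAffineOpen U' := by
    haveI : IsAffine _ := hV
    haveI : IsAffine _ := hV'
    haveI : IsAffine _ := hU
    exact .of_isIso (Scheme.Hom.isPullback_resLE hc hVV' hUV (UY := U') rfl).isoPullback.hom
  obtain ⟨h₀, H₀⟩ := rfpAt_of_isRelFP hF H hU hV hUV
  refine ⟨U', V', hU', hV', ⟨hxU, hxV'⟩, inf_le_right, ?_⟩
  letI := (f.appLE V U hUV).hom.toAlgebra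
  letI := (g.appLE V V' hVV').hom.toAlgebra
  letI := (g'.appLE U U' inf_le_left).hom.toAlgebra
  letI := (f'.appLE V' U' inf_le_right).hom.toAlgebra
  letI : Algebra Γ(S, V) Γ(X', U') :=
    ((g'.appLE U U' inf_le_left).hom.comp (f.appLE V U hUV).hom).toAlgebra
  haveI : IsScalarTower Γ(S, V) Γ(X, U) Γ(X', U') := .of_algebraMap_eq fun _ => rfl
  haveI : IsScalarTower Γ(S, V) Γ(S', V') Γ(X', U') :=
    IsScalarTower.of_algebraMap_eq' (congrArg CommRingCat.Hom.hom hp.w)
  haveI : Algebra.IsPushout Γ(S, V) Γ(S', V') Γ(X, U) Γ(X', U') :=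
    (CommRingCat.isPushout_iff_isPushout.mp hp.flip)
  letI := Module.compHom Γ((Scheme.Modules.pullback g').obj F, U') (g'.appLE U U' inf_le_left).hom
  haveI : IsScalarTower Γ(X, U) Γ(X', U') Γ((Scheme.Modules.pullback g').obj F, U') :=
    .of_algebraMap_smul fun _ _ => rfl
  exact relFP_baseChange (R := Γ(S, V)) (R' := Γ(S', V'))
    (PullSections.pullLin g' F inf_le_left)
    (PullSections.isBaseChange_pullLin g' F inf_le_left hF hU hU') H₀

end Groth.Agent.H8Props.RelFP
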