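import Groth.Agent.H8Props.PseudoCoh.Finite
import Groth.Prelude.Def_FlatCA
import Mathlib.RingTheory.Polynomial.Basic
import Mathlib.RingTheory.IsTensorProduct

/-!
# Modules of finite presentation relative to a base ring

`FP1 π N`: the `S`-module `N` is finitely presented through `π : P →+* S`. Independence of the chosen
presentation, exactness properties, restriction and extension along ring maps.
-/

set_option autoImplicit false
set_option linter.style.haveILetI false

universe u

open TensorProduct MvPolynomial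

namespace Groth.Agent.H8Props.RelFP

open PseudoCoh

variable {P Q S T : Type u} [CommRing P] [CommRing Q] [CommRing S] [CommRing T]

/-- `N` is finitely presented over `P` through `π`. -/
def FP1 (π : P →+* S) (N : Type u) [AddCommGroup N] [Module S N] : Prop :=
  letI := Module.compHom N π
  FPk P 1 N

/-- The target of `g` is finitely presented as a module over the source. -/
def Q1 (g : Q →+* P) : Prop :=
  letI := g.toAlgebra
  FPk Q 1 P

theorem fp1_iff {N : Type u} [AddCommGroup N] [Module S N] [m : Module P N] (π : P →+* S)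
    (h : ∀ (p : P) (n : N), π p • n = p • n) : FP1 π N ↔ FPk P 1 N := by
  have e : (Module.compHom N π : Module P N) = m := Module.ext' _ _ fun p n => h p n
  unfold FP1
  rw [e]

theorem FP1.comp_iff {N : Type u} [AddCommGroup N] [Module S N] (π : P →+* S) {g : Q →+* P}
    (hg : Q1 g) : FP1 (π.comp g) N ↔ FP1 π N := by
  letI := g.toAlgebra
  letI : Module P N := Module.compHom N π
  letI : Module Q N := Module.compHom N (π.comp g)
  haveI : IsScalarTower Q P N := IsScalarTower.of_algebraMap_smul fun _ _ => rfl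
  exact ⟨fun h => FPk.of_restrictScalars (hg : FPk Q 1 P) h, fun h => FPk.restrictScalars (hg : FPk Q 1 P) h⟩

theorem q1_of_rfp {g : Q →+* P} (hg : RFP g) : Q1 g := hg 1

theorem q1_of_surjective {g : Q →+* P} (hs : Function.Surjective g) (hk : (RingHom.ker g).FG) :
    Q1 g := by
  letI := g.toAlgebra
  exact fpk_one_iff.mpr (Module.finitePresentation_of_surjective (Algebra.linearMap Q P) hs hk)

theorem q1_of_bijective {g : Q →+* P} (hg : Function.Bijective g) : Q1 g :=
  q1_of_rfp (rfp_of_bijective g hg)

/-- Finite presentation passes to a quotient ring acting on the module. -/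
theorem FP1.of_surjective {N : Type u} [AddCommGroup N] [Module S N] (π : P →+* S) {g : Q →+* P}
    (hg : Function.Surjective g) (h : FP1 (π.comp g) N) : FP1 π N := by
  letI := g.toAlgebra
  letI : Module P N := Module.compHom N π
  letI : Module Q N := Module.compHom N (π.comp g)
  haveI : IsScalarTower Q P N := IsScalarTower.of_algebraMap_smul fun _ _ => rfl
  obtain ⟨n, f, hf, hK⟩ : FPk Q 1 N := h
  haveI : Module.Finite Q (LinearMap.ker f) := hK
  let e : Fin n → N := fun i => f (Pi.single i 1)
  let r : (Fin n → Q) →ₗ[Q] (Fin n → P) :=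
    { toFun := fun x i => g (x i)
      map_add' := fun x y => by ext; simp
      map_smul' := fun c x => funext fun i => by
        show g (c * x i) = g c * g (x i)
        rw [map_mul] }
  let f' : (Fin n → P) →ₗ[P] N := Fintype.linearCombination P e
  have hfr : ∀ x, f' (r x) = f x := fun x => by
    conv_rhs => rw [pi_eq_sum_univ' x, map_sum]
    rw [show f' (r x) = ∑ i, r x i • e i from rfl]
    refine Finset.sum_congr rfl fun i _ => ?_
    rw [map_smul]
    rfl
  refine ⟨n, f', fun y => ?_, ?_⟩
  · obtain ⟨x, rfl⟩ := hf y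
    exact ⟨r x, hfr x⟩
  · obtain ⟨s, hs⟩ := Module.Finite.iff_fg.mp hK
    classical
    refine Module.Finite.iff_fg.mpr ⟨s.image r, le_antisymm (Submodule.span_le.2 ?_) ?_⟩
    · intro z hz
      obtain ⟨x, hx, rfl⟩ := Finset.mem_image.1 hz
      show f' (r x) = 0
      rw [hfr]
      exact LinearMap.mem_ker.1 (hs.le (Submodule.subset_span hx))
    · intro z hz
      choose x hx using fun i => hg (z i)
      have hzx : r x = z := funext hx
      have hxk : x ∈ LinearMap.ker f := by
        rw [LinearMap.mem_ker, ← hfr, hzx]; exact hz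
      rw [← hs] at hxk
      rw [← hzx]
      have hle : Submodule.map r (Submodule.span Q (s : Set (Fin n → Q))) ≤
          (Submodule.span P ((s.image r : Finset _) : Set (Fin n → P))).restrictScalars Q := by
        rw [Submodule.map_span, Submodule.span_le, Finset.coe_image]
        exact fun y hy => Submodule.subset_span hy
      exact hle ⟨x, hxk, rfl⟩

theorem FP1.of_semilinear {N N' : Type u} [AddCommGroup N] [Module S N] [AddCommGroup N'] [Module T N']
    (π : P →+* S) (π' : P →+* T) (e : N →+ N') (he : Function.Bijective e)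
    (hs : ∀ (p : P) (n : N), e (π p • n) = π' p • e n) (h : FP1 π N) : FP1 π' N' := by
  letI : Module P N := Module.compHom N π
  letI : Module P N' := Module.compHom N' π'
  exact FPk.of_equiv (LinearEquiv.ofBijective
    ({ toFun := e, map_add' := map_add e, map_smul' := hs } : N →ₗ[P] N') he) h

section Presentations

variable {A B : Type u} [CommRing A] [CommRing B] [Algebra A B] {N : Type u} [AddCommGroup N]
  [Module B N]

theorem fp1_presentation_indep {σ τ : Type u} [Finite σ] [Finite τ] (φ : MvPolynomial σ A →ₐ[A] B)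
    (ψ : MvPolynomial τ A →ₐ[A] B) (hφ : Function.Surjective φ) (hψ : Function.Surjective ψ)
    (h : FP1 φ.toRingHom N) : FP1 ψ.toRingHom N := by
  choose p hp using fun j => hφ (ψ (MvPolynomial.X j))
  choose q hq using fun i => hψ (φ (MvPolynomial.X i))
  let r₁ : MvPolynomial (τ ⊕ σ) A →ₐ[A] MvPolynomial σ A :=
    MvPolynomial.aeval (Sum.elim p MvPolynomial.X)
  let r₂ : MvPolynomial (σ ⊕ τ) A →ₐ[A] MvPolynomial τ A :=
    MvPolynomial.aeval (Sum.elim q MvPolynomial.X)
  let e := MvPolynomial.renameEquiv A (Equiv.sumComm σ τ)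
  have h12 : φ.comp (r₁.comp e.toAlgHom) = ψ.comp r₂ := by
    refine MvPolynomial.algHom_ext fun i => ?_
    cases i <;> simp [r₁, r₂, e, hp, hq]
  have h1 : FP1 (φ.comp (r₁.comp e.toAlgHom)).toRingHom N :=
    (FP1.comp_iff φ.toRingHom (q1_of_rfp
      ((rfp_of_bijective e.toAlgHom.toRingHom e.bijective).comp (rfp_retract p)))).mpr h
  rw [h12] at h1
  exact (FP1.comp_iff ψ.toRingHom (q1_of_rfp (rfp_retract q))).mp h1

theorem relFP_iff_exists :
    FlatCA.RelFinitePresentation A B N ↔
      ∃ (n : ℕ) (φ : MvPolynomial (Fin n) A →ₐ[A] B), Function.Surjective φ ∧ FP1 φ.toRingHom N := by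
  simp only [FlatCA.RelFinitePresentation, FP1, fpk_one_iff]

theorem relFP_of_presentation {σ : Type u} [Finite σ] (φ : MvPolynomial σ A →ₐ[A] B)
    (hφ : Function.Surjective φ) (h : FP1 φ.toRingHom N) :
    FlatCA.RelFinitePresentation A B N := by
  obtain ⟨n, ⟨e⟩⟩ := Finite.exists_equiv_fin σ
  exact relFP_iff_exists.mpr ⟨n, φ.comp (MvPolynomial.renameEquiv A e.symm).toAlgHom,
    hφ.comp (MvPolynomial.renameEquiv A e.symm).surjective,
    (FP1.comp_iff φ.toRingHom (q1_of_bijective (MvPolynomial.renameEquiv A e.symm).bijective)).mpr h⟩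

theorem exists_presentation (h : FlatCA.RelFinitePresentation A B N) :
    ∃ (n : ℕ) (φ : MvPolynomial (ULift.{u} (Fin n)) A →ₐ[A] B),
      Function.Surjective φ ∧ FP1 φ.toRingHom N := by
  obtain ⟨n, ψ, hψ, hn⟩ := relFP_iff_exists.mp h
  let e := MvPolynomial.renameEquiv A (Equiv.ulift.{u, 0} (α := Fin n))
  exact ⟨n, ψ.comp e.toAlgHom, hψ.comp e.surjective,
    (FP1.comp_iff ψ.toRingHom (q1_of_bijective e.bijective)).mpr hn⟩

theorem fp1_of_relFP (h : FlatCA.RelFinitePresentation A B N) {σ : Type u} [Finite σ]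
    (φ : MvPolynomial σ A →ₐ[A] B) (hφ : Function.Surjective φ) : FP1 φ.toRingHom N := by
  obtain ⟨n, ψ, hψ, hn⟩ := exists_presentation h
  exact fp1_presentation_indep ψ φ hψ hφ hn

theorem finiteType_of_relFP (h : FlatCA.RelFinitePresentation A B N) : Algebra.FiniteType A B := by
  obtain ⟨n, φ, hφ, -⟩ := h
  exact Algebra.FiniteType.of_surjective φ hφ

theorem finite_of_relFP (h : FlatCA.RelFinitePresentation A B N) : Module.Finite B N := by
  obtain ⟨n, φ, hφ, hn⟩ := relFP_iff_exists.mp h
  letI := φ.toRingHom.toAlgebra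
  letI : Module (MvPolynomial (Fin n) A) N := Module.compHom N φ.toRingHom
  haveI : IsScalarTower (MvPolynomial (Fin n) A) B N := IsScalarTower.of_algebraMap_smul fun _ _ => rfl
  haveI : Module.Finite (MvPolynomial (Fin n) A) N := FPk.finite hn
  exact Module.Finite.of_restrictScalars_finite (MvPolynomial (Fin n) A) B N

end Presentations

section Sequences

variable {A B : Type u} [CommRing A] [CommRing B] [Algebra A B] {N₁ N₂ N₃ : Type u}
  [AddCommGroup N₁] [Module B N₁] [AddCommGroup N₂] [Module B N₂] [AddCommGroup N₃] [Module B N₃]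
  (i : N₁ →ₗ[B] N₂) (p : N₂ →ₗ[B] N₃)

theorem relFP_ext (hi : Function.Injective i) (hp : Function.Surjective p) (he : Function.Exact i p)
    (h₁ : FlatCA.RelFinitePresentation A B N₁) (h₃ : FlatCA.RelFinitePresentation A B N₃) :
    FlatCA.RelFinitePresentation A B N₂ := by
  obtain ⟨n, φ, hφ, hn⟩ := exists_presentation h₁
  have h3 := fp1_of_relFP h₃ φ hφ
  refine relFP_of_presentation φ hφ ?_
  letI := φ.toRingHom.toAlgebra
  letI : Module (MvPolynomial (ULift.{u} (Fin n)) A) N₁ := Module.compHom N₁ φ.toRingHom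
  letI : Module (MvPolynomial (ULift.{u} (Fin n)) A) N₂ := Module.compHom N₂ φ.toRingHom
  letI : Module (MvPolynomial (ULift.{u} (Fin n)) A) N₃ := Module.compHom N₃ φ.toRingHom
  haveI : IsScalarTower (MvPolynomial (ULift.{u} (Fin n)) A) B N₁ := .of_algebraMap_smul fun _ _ => rfl
  haveI : IsScalarTower (MvPolynomial (ULift.{u} (Fin n)) A) B N₂ := .of_algebraMap_smul fun _ _ => rfl
  haveI : IsScalarTower (MvPolynomial (ULift.{u} (Fin n)) A) B N₃ := .of_algebraMap_smul fun _ _ => rfl
  exact FPk.ext (i.restrictScalars _) (p.restrictScalars _) hi hp he hn h3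

theorem relFP_quot (hi : Function.Injective i) (hp : Function.Surjective p) (he : Function.Exact i p)
    [Module.Finite B N₁] (h₂ : FlatCA.RelFinitePresentation A B N₂) :
    FlatCA.RelFinitePresentation A B N₃ := by
  obtain ⟨n, φ, hφ, hn⟩ := exists_presentation h₂
  refine relFP_of_presentation φ hφ ?_
  letI := φ.toRingHom.toAlgebra
  letI : Module (MvPolynomial (ULift.{u} (Fin n)) A) N₁ := Module.compHom N₁ φ.toRingHom
  letI : Module (MvPolynomial (ULift.{u} (Fin n)) A) N₂ := Module.compHom N₂ φ.toRingHom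
  letI : Module (MvPolynomial (ULift.{u} (Fin n)) A) N₃ := Module.compHom N₃ φ.toRingHom
  haveI : IsScalarTower (MvPolynomial (ULift.{u} (Fin n)) A) B N₁ := .of_algebraMap_smul fun _ _ => rfl
  haveI : IsScalarTower (MvPolynomial (ULift.{u} (Fin n)) A) B N₂ := .of_algebraMap_smul fun _ _ => rfl
  haveI : IsScalarTower (MvPolynomial (ULift.{u} (Fin n)) A) B N₃ := .of_algebraMap_smul fun _ _ => rfl
  haveI : Module.Finite (MvPolynomial (ULift.{u} (Fin n)) A) B :=
    Module.Finite.of_surjective (Algebra.linearMap _ B) hφ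
  exact FPk.quot_succ (i.restrictScalars (MvPolynomial (ULift.{u} (Fin n)) A))
    (p.restrictScalars (MvPolynomial (ULift.{u} (Fin n)) A)) hi hp he hn
    (Module.Finite.trans B N₁ : Module.Finite (MvPolynomial (ULift.{u} (Fin n)) A) N₁)

theorem relFP_retract (r : N₂ →ₗ[B] N₁) (hr : ∀ x, r (i x) = x)
    (h : FlatCA.RelFinitePresentation A B N₂) : FlatCA.RelFinitePresentation A B N₁ := by
  obtain ⟨n, φ, hφ, hn⟩ := exists_presentation h
  refine relFP_of_presentation φ hφ ?_
  letI := φ.toRingHom.toAlgebra
  letI : Module (MvPolynomial (ULift.{u} (Fin n)) A) N₁ := Module.compHom N₁ φ.toRingHom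
  letI : Module (MvPolynomial (ULift.{u} (Fin n)) A) N₂ := Module.compHom N₂ φ.toRingHom
  haveI : IsScalarTower (MvPolynomial (ULift.{u} (Fin n)) A) B N₁ := .of_algebraMap_smul fun _ _ => rfl
  haveI : IsScalarTower (MvPolynomial (ULift.{u} (Fin n)) A) B N₂ := .of_algebraMap_smul fun _ _ => rfl
  exact FPk.of_retraction (i.restrictScalars _) (r.restrictScalars _) hr hn

end Sequences

section Change

variable {R R' : Type u} [CommRing R] [CommRing R'] [Algebra R S] {N : Type u} [AddCommGroup N]
  [Module S N]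

theorem fg_ker_comp_bijective {A B C : Type u} [CommRing A] [CommRing B] [CommRing C] (f : A →+* B)
    (e : C →+* A) (he : Function.Bijective e) (hf : (RingHom.ker f).FG) :
    (RingHom.ker (f.comp e)).FG := by
  let E := RingEquiv.ofBijective e he
  have h : RingHom.ker (f.comp e) = (RingHom.ker f).map E.symm.toRingHom := by
    ext x
    rw [Ideal.mem_map_iff_of_surjective E.symm.toRingHom E.symm.surjective]
    refine ⟨fun hx => ⟨E x, hx, E.symm_apply_apply x⟩, ?_⟩
    rintro ⟨y, hy, rfl⟩
    show f (E (E.symm y)) = 0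
    rw [E.apply_symm_apply]
    exact hy
  rw [h]
  exact hf.map _

/-- The combined presentation of a tower. -/
noncomputable def combine {A B : Type u} [CommRing A] [CommRing B] [Algebra R A] [Algebra R B]
    {σ τ : Type u} (φ : MvPolynomial σ R →ₐ[R] A) (ψ : MvPolynomial τ A →+* B)
    (hc : ∀ r, ψ (C (algebraMap R A r)) = algebraMap R B r) : MvPolynomial (τ ⊕ σ) R →ₐ[R] B :=
  { toRingHom := ψ.comp ((MvPolynomial.map φ.toRingHom).comp
      (MvPolynomial.sumAlgEquiv R τ σ).toAlgHom.toRingHom)
    commutes' := fun r => by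
      show ψ (MvPolynomial.map φ.toRingHom (MvPolynomial.sumAlgEquiv R τ σ (C r))) = _
      rw [MvPolynomial.sumAlgEquiv_C_inl, MvPolynomial.map_C]
      exact (congrArg (fun a => ψ (C a)) (φ.commutes r)).trans (hc r) }

theorem surjective_combine {A B : Type u} [CommRing A] [CommRing B] [Algebra R A] [Algebra R B]
    {σ τ : Type u} (φ : MvPolynomial σ R →ₐ[R] A) (ψ : MvPolynomial τ A →+* B)
    (hc : ∀ r, ψ (C (algebraMap R A r)) = algebraMap R B r) (hφ : Function.Surjective φ)
    (hψ : Function.Surjective ψ) : Function.Surjective (combine φ ψ hc) :=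
  hψ.comp ((MvPolynomial.map_surjective φ.toRingHom hφ).comp
    (MvPolynomial.sumAlgEquiv R τ σ).surjective)

/-- Transitivity along a finitely presented algebra. -/
theorem relFP_comp [Algebra R R'] [Algebra R' S] [IsScalarTower R R' S]
    [Algebra.FinitePresentation R R'] (h : FlatCA.RelFinitePresentation R' S N) :
    FlatCA.RelFinitePresentation R S N := by
  obtain ⟨m, φ₀, hφ₀, hker₀⟩ := (inferInstance : Algebra.FinitePresentation R R').out
  let ren := MvPolynomial.renameEquiv R (Equiv.ulift.{u, 0} (α := Fin m))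
  let φ := φ₀.comp ren.toAlgHom
  have hφ : Function.Surjective φ := hφ₀.comp ren.surjective
  have hker : (RingHom.ker φ.toRingHom).FG :=
    fg_ker_comp_bijective φ₀.toRingHom ren.toAlgHom.toRingHom ren.bijective hker₀
  obtain ⟨n, ψ, hψ, hn⟩ := exists_presentation h
  have hc : ∀ r, ψ.toRingHom (C (algebraMap R R' r)) = algebraMap R S r := fun r => by
    rw [IsScalarTower.algebraMap_apply R R' S]
    exact ψ.commutes _
  refine relFP_of_presentation (combine φ ψ.toRingHom hc)
    (surjective_combine φ ψ.toRingHom hc hφ hψ) ?_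
  let e := (MvPolynomial.sumAlgEquiv R (ULift.{u} (Fin n)) (ULift.{u} (Fin m))).toAlgHom.toRingHom
  have he : Function.Bijective e :=
    (MvPolynomial.sumAlgEquiv R (ULift.{u} (Fin n)) (ULift.{u} (Fin m))).bijective
  have hs : Function.Surjective ((MvPolynomial.map φ.toRingHom).comp e) := fun y => by
    obtain ⟨z, rfl⟩ := MvPolynomial.map_surjective φ.toRingHom hφ y
    obtain ⟨w, rfl⟩ := he.2 z
    exact ⟨w, rfl⟩
  refine (FP1.comp_iff ψ.toRingHom (q1_of_surjective hs ?_)).mpr hn
  refine fg_ker_comp_bijective _ e he ?_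
  rw [MvPolynomial.ker_map]
  exact Ideal.FG.map hker _

/-- Change of base to a finite type algebra. -/
theorem relFP_of_comp [Algebra R R'] [Algebra R' S] [IsScalarTower R R' S]
    [Algebra.FiniteType R R'] (h : FlatCA.RelFinitePresentation R S N) :
    FlatCA.RelFinitePresentation R' S N := by
  obtain ⟨m, α, hα⟩ :=
    Algebra.FiniteType.iff_quotient_mvPolynomial''.mp (inferInstance : Algebra.FiniteType R R')
  let ren := MvPolynomial.renameEquiv R (Equiv.ulift.{u, 0} (α := Fin m))
  let α' := α.comp ren.toAlgHom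
  haveI := finiteType_of_relFP h
  haveI : Algebra.FiniteType R' S := Algebra.FiniteType.of_restrictScalars_finiteType R R' S
  obtain ⟨n, β, hβ⟩ :=
    Algebra.FiniteType.iff_quotient_mvPolynomial''.mp (inferInstance : Algebra.FiniteType R' S)
  let ren' := MvPolynomial.renameEquiv R' (Equiv.ulift.{u, 0} (α := Fin n))
  let β' := β.comp ren'.toAlgHom
  have hc : ∀ r, β'.toRingHom (C (algebraMap R R' r)) = algebraMap R S r := fun r => by
    rw [IsScalarTower.algebraMap_apply R R' S]
    exact β'.commutes _
  refine relFP_of_presentation β' (hβ.comp ren'.surjective) ?_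
  refine FP1.of_surjective β'.toRingHom (g := (MvPolynomial.map α'.toRingHom).comp
      (MvPolynomial.sumAlgEquiv R (ULift.{u} (Fin n)) (ULift.{u} (Fin m))).toAlgHom.toRingHom)
    (fun y => ?_)
    (fp1_of_relFP h (combine α' β'.toRingHom hc)
      (surjective_combine α' β'.toRingHom hc (hα.comp ren.surjective) (hβ.comp ren'.surjective)))
  obtain ⟨z, rfl⟩ := MvPolynomial.map_surjective α'.toRingHom (hα.comp ren.surjective) y
  obtain ⟨w, rfl⟩ := (MvPolynomial.sumAlgEquiv R (ULift.{u} (Fin n)) (ULift.{u} (Fin m))).surjective z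
  exact ⟨w, rfl⟩

end Change

end Groth.Agent.H8Props.RelFP
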